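import Cfsg.Agent.Mrg.Omega.OM.TV.TEnd
import Cfsg.Agent.Mrg.Omega.OM.TV.Base
import Cfsg.Agent.Mrg.Omega.OM.PG.ExactQ


/-!
# Two types of points: `N_0 ∩ N_1 ≤ Z_0Z_1` implies `[N_0, N_1] = 1` (helper918, TEXT W2 #24006 (6))

* `TIn Z U B` : the inputs over helper683's frame `PT.PP`, `PT.XF`, `PT.TIp`;
* `TIn.card_eq` : `[N_0, N_1] ≠ 1` implies `|Z_0| = |Z_1|`;
* `TIn.toTQL`, `TIn.com`.
-/

set_option autoImplicit false
set_option linter.unusedSectionVars false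

namespace Cfsg.Agent.Omega.OM.TV

open Subgroup Cfsg Cfsg.Agent.ZN Cfsg.Agent.Omega.MinPar
open Cfsg.Agent.Omega.NoFF.Basic (conj_conj mem_conj conj_le_iff conj_le_centralizer comm_symm comm_mono)
open Cfsg.Agent.Omega.NOThreeL.Pair (conj_eq_of_mem)
open Cfsg.Agent.Omega.OM.PG (HH QQ HH_conj QQ_conj conj_inv_conj inv_conj_conj)
open Cfsg.Agent.Omega.NO3S.EThree (conj_sup' conj_centralizer relIndex_conj mem_sup_of_comm norm_conj conj_norm
  conj_normalizer mem_conj_self)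
open scoped Pointwise

universe u

variable {G : Type u} [Group G]

/-- The inputs of (6). `B` : a 2-group which normalises `Z 0` and `Z 1`, `C_{N_i}(B) ≤ Z_0Z_1`. -/
structure TIn (Z U : Fin 2 → Subgroup G) (B : Subgroup G) : Prop where
  P : PT.PP Z U
  X : PT.XF Z (PT.XW Z U)
  ti : PT.TIp Z
  fus : ∀ a, PT.IsPt Z a → ∀ x ∈ a, x ∈ Z 0 ⊔ Z 1 → x ≠ 1 → a = Z 0 ∨ a = Z 1
  tra : ∀ i, ∀ x ∈ U i, x ≠ 1 → ∃ l : G, x ∈ MulAut.conj l • Z i ∧ MulAut.conj l • Z (i + 1) = Z (i + 1) ∧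
    MulAut.conj l • U i = U i ∧ MulAut.conj l • U (i + 1) = U (i + 1)
  cardU : ∀ i, Nat.card (U i) = Nat.card (Z i) ^ 2
  core : ∀ i, ∀ J : Subgroup G, J ≤ HH (Z i) → HH (Z i) ≤ normalizer (J : Set G) →
    (∀ y ∈ J, y * y ∈ centralizer (PT.NN Z (Z i) : Set G)) → J ≤ centralizer (PT.NN Z (Z i) : Set G)
  B2 : IsPGroup 2 B
  BZ : ∀ i, B ≤ HH (Z i)
  int : PT.NN Z (Z 0) ⊓ PT.NN Z (Z 1) ≤ Z 0 ⊔ Z 1
  Bfix : ∀ i, ∀ n ∈ PT.NN Z (Z i), (∀ b ∈ B, b * n * b⁻¹ = n) → n ∈ Z 0 ⊔ Z 1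

namespace TIn

variable {Z U : Fin 2 → Subgroup G} {B : Subgroup G} (H : TIn Z U B)
include H

theorem ti' {a b : Subgroup G} (ha : PT.IsPt Z a) (hb : PT.IsPt Z b) {x : G} (hx : x ∈ a) (hx' : x ∈ b)
    (hx1 : x ≠ 1) : a = b := by
  by_contra hne
  exact hx1 (PT.ti_one H.ti ha hb hne hx hx')

theorem Z_ne (i : Fin 2) : Z i ≠ Z (i + 1) := by
  intro e
  apply H.P.ne i
  have h1 : IsPGroup 2 (Z i) := by
    rintro ⟨x, hx⟩
    exact ⟨1, by rw [pow_one]; exact Subtype.ext (H.P.sq i x hx)⟩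
  exact H.P.nonLoc' i (Z i) h1 le_rfl (by rw [← e])

theorem adj_ne {a u : Subgroup G} (h : PT.Adj Z a u) : a ≠ u := by
  obtain ⟨i, k, rfl, rfl⟩ := h
  intro e
  apply H.Z_ne i
  have h1 := congrArg (MulAut.conj k⁻¹ • ·) e
  simpa only [inv_conj_conj] using h1

theorem Z_cent (i : Fin 2) : Z (i + 1) ≤ centralizer (Z i : Set G) := by
  have h1 : Z (i + 1) ≤ HH (Z i) := ((PT.adj Z i).le_NN.trans (H.P.N_le_Q i)).trans (MinSimple.VModule.o2_le _)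
  have h2 : Z i ≤ HH (Z (i + 1)) := by
    have h3 := (PT.adj Z i).symm.le_NN.trans ((H.P.N_le_Q (i + 1)).trans (MinSimple.VModule.o2_le _))
    exact h3
  intro x hx
  refine mem_centralizer_iff.2 fun y hy => ?_
  have h3 : x * y * x⁻¹ ∈ Z i := (mem_normalizer_iff.1 (h1 hx) y).1 hy
  have h4 : y * x * y⁻¹ ∈ Z (i + 1) := (mem_normalizer_iff.1 (h2 hy) x).1 hx
  have h5 : y * x * y⁻¹ * x⁻¹ ∈ Z i := by
    have e : y * x * y⁻¹ * x⁻¹ = y * (x * y * x⁻¹)⁻¹ := by group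
    rw [e]
    exact mul_mem hy (inv_mem h3)
  have h6 : y * x * y⁻¹ * x⁻¹ ∈ Z (i + 1) := mul_mem h4 (inv_mem hx)
  have h7 := PT.ti_one H.ti (PT.isPt Z i) (PT.isPt Z (i + 1)) (H.Z_ne i) h5 h6
  rw [mul_inv_eq_one] at h7
  calc y * x = (y * x * y⁻¹) * y := by group
    _ = x * y := by rw [h7]

theorem adj_cent {a u : Subgroup G} (h : PT.Adj Z a u) : u ≤ centralizer (a : Set G) := by
  obtain ⟨i, k, rfl, rfl⟩ := h
  exact conj_le_centralizer (H.Z_cent i)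

theorem self (a : Subgroup G) : PT.NN Z a ≤ centralizer (a : Set G) := sSup_le fun _ hu => H.adj_cent hu

theorem fusZ (i : Fin 2) {w : Subgroup G} (hw : PT.IsPt Z w) {x : G} (hx : x ∈ w) (hx' : x ∈ Z i ⊔ Z (i + 1))
    (hx1 : x ≠ 1) : w = Z i ∨ w = Z (i + 1) := by
  rcases f01 i with h | h
  · subst h
    exact H.fus w hw x hx hx' hx1
  · subst h
    have e : (1 : Fin 2) + 1 = 0 := rfl
    rw [e] at hx' ⊢
    rw [sup_comm] at hx'
    exact (H.fus w hw x hx hx' hx1).symm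

theorem fus' {a u w : Subgroup G} (h : PT.Adj Z a u) (hw : PT.IsPt Z w) {x : G} (hx : x ∈ w) (hx' : x ∈ a ⊔ u)
    (hx1 : x ≠ 1) : w = a ∨ w = u := by
  obtain ⟨i, k, rfl, rfl⟩ := h
  rw [← conj_sup', mem_conj] at hx'
  have h1 : k⁻¹ * x * k ∈ MulAut.conj k⁻¹ • w := by
    rw [mem_conj]
    have : k⁻¹⁻¹ * (k⁻¹ * x * k) * k⁻¹ = x := by group
    rwa [this]
  have h2 : k⁻¹ * x * k ≠ 1 := by
    intro e
    apply hx1
    have : x = k * (k⁻¹ * x * k) * k⁻¹ := by group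
    rw [this, e]; group
  rcases H.fusZ i (hw.conj k⁻¹) h1 hx' h2 with h3 | h3
  · left; rw [← h3, conj_inv_conj]
  · right; rw [← h3, conj_inv_conj]

/-- `[N_i, N_{i+1}] ≤ Z_0Z_1` -/
def Cm (Z : Fin 2 → Subgroup G) (i : Fin 2) : Prop :=
  ∀ n ∈ PT.NN Z (Z i), ∀ t ∈ PT.NN Z (Z (i + 1)), n * t * n⁻¹ * t⁻¹ ∈ Z i ⊔ Z (i + 1)

omit H in
theorem Cm.symm {i : Fin 2} (h : Cm Z i) : Cm Z (i + 1) := by
  intro n hn t ht
  rw [f2] at ht ⊢
  rw [sup_comm]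
  have h1 := inv_mem (h t ht n hn)
  have e1 : (t * n * t⁻¹ * n⁻¹)⁻¹ = n * t * n⁻¹ * t⁻¹ := by group
  rwa [e1] at h1

/-- a point of `N_i`, an element of `N_{i+1}` which centralises some `x ≠ 1` in it -/
theorem cent_of {i : Fin 2} (hc : Cm Z i) {w : Subgroup G} (hw : PT.Adj Z (Z i) w) {t : G}
    (ht : t ∈ PT.NN Z (Z (i + 1))) {x : G} (hx : x ∈ w) (hx1 : x ≠ 1) (h : x * t = t * x) {z : G} (hz : z ∈ w) :
    z * t = t * z := by
  have h1 : MulAut.conj t • w = w := by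
    refine H.ti' (hw.pt'.conj t) hw.pt' (x := x) ?_ hx hx1
    rw [mem_conj, mul_assoc, h, inv_mul_cancel_left]
    exact hx
  have h2 : t * z⁻¹ * t⁻¹ ∈ w := by
    have := mem_conj_self (k := t) (inv_mem hz)
    rwa [h1] at this
  have h3 : z * t * z⁻¹ * t⁻¹ ∈ w := by
    have e : z * t * z⁻¹ * t⁻¹ = z * (t * z⁻¹ * t⁻¹) := by group
    rw [e]
    exact mul_mem hz h2
  by_cases h4 : z * t * z⁻¹ * t⁻¹ = 1
  · rw [mul_inv_eq_one] at h4
    calc z * t = (z * t * z⁻¹) * z := by group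
      _ = t * z := by rw [h4]
  · rcases H.fusZ i hw.pt' h3 (hc z (hw.le_NN hz) t ht) h4 with e | e
    · exact absurd e.symm (H.adj_ne hw)
    · rw [e] at hz
      exact mem_centralizer_iff.1 (H.self _ ht) z hz

theorem ne_one {i : Fin 2} (hc : Cm Z i) {w y : Subgroup G} (hw : PT.Adj Z (Z i) w) (hy : PT.Adj Z (Z (i + 1)) y)
    (h : ¬ w ≤ centralizer (y : Set G)) {x t : G} (hx : x ∈ w) (hx1 : x ≠ 1) (ht : t ∈ y) (ht1 : t ≠ 1) :
    x * t ≠ t * x := by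
  intro e
  apply h
  intro z hz
  refine mem_centralizer_iff.2 fun s hs => ?_
  have h1 : z * t = t * z := H.cent_of hc hw (hy.le_NN ht) hx hx1 e hz
  have hz' : z ∈ PT.NN Z (Z (i + 1 + 1)) := by rw [f2]; exact hw.le_NN hz
  exact H.cent_of hc.symm hy hz' ht ht1 h1.symm hs

theorem part {i : Fin 2} {w y : Subgroup G} (hw : PT.Adj Z (Z i) w) (hy : PT.Adj Z (Z (i + 1)) y)
    {x t : G} (hx : x ∈ w) (ht : t ∈ y) (h : x * t * x⁻¹ * t⁻¹ ∈ Z (i + 1)) : x * t = t * x := by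
  by_cases h0 : x * t * x⁻¹ = 1
  · have ht1 : t = 1 := by
      have e : t = x⁻¹ * (x * t * x⁻¹) * x := by group
      rw [e, h0]; group
    rw [ht1, mul_one, one_mul]
  · have hxH : x ∈ HH (Z (i + 1)) := H.P.QQ_le_HH (PT.adj Z i).symm (H.P.N_le_Q i (hw.le_NN hx))
    have e1 : MulAut.conj x • Z (i + 1) = Z (i + 1) := conj_eq_of_mem hxH
    have h1 : PT.Adj Z (Z (i + 1)) (MulAut.conj x • y) := by
      have := hy.conj x
      rwa [e1] at this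
    have h2 : x * t * x⁻¹ ∈ MulAut.conj x • y := mem_conj_self ht
    have h3 : x * t * x⁻¹ ∈ Z (i + 1) ⊔ y := by
      have e : x * t * x⁻¹ = x * t * x⁻¹ * t⁻¹ * t := by group
      rw [e]
      exact mul_mem (mem_sup_left h) (mem_sup_right ht)
    rcases H.fus' hy h1.pt' h2 h3 h0 with h4 | h4
    · exact absurd h4.symm (H.adj_ne h1)
    · rw [h4] at h2
      have h5 : x * t * x⁻¹ * t⁻¹ ∈ y := mul_mem h2 (inv_mem ht)
      have h6 := PT.ti_one H.ti hy.pt hy.pt' (H.adj_ne hy) h h5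
      rw [mul_inv_eq_one] at h6
      calc x * t = (x * t * x⁻¹) * x := by group
        _ = t * x := by rw [h6]

omit H in
theorem card_conj (k : G) (A : Subgroup G) : Nat.card (MulAut.conj k • A : Subgroup G) = Nat.card A :=
  (Nat.card_congr (Subgroup.equivSMul (MulAut.conj k) A).toEquiv).symm

omit H in
theorem card_adj {i : Fin 2} {w : Subgroup G} (hw : PT.Adj Z (Z i) w) : Nat.card w = Nat.card (Z (i + 1)) := by
  obtain ⟨j, k, e1, rfl⟩ := hw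
  rw [card_conj]
  rcases PT.eq_or i j with rfl | rfl
  · rfl
  · rw [f2, e1, card_conj]

variable [Finite G]

theorem card_le {i : Fin 2} (hc : Cm Z i) {w y : Subgroup G} (hw : PT.Adj Z (Z i) w) (hy : PT.Adj Z (Z (i + 1)) y)
    (h : ¬ w ≤ centralizer (y : Set G)) : Nat.card (Z (i + 1)) ≤ Nat.card (Z i) := by
  obtain ⟨t, ht, ht1⟩ : ∃ t ∈ y, t ≠ 1 := by
    by_contra hcon
    push Not at hcon
    exact H.P.pt_ne hy.pt' ((eq_bot_iff_forall _).2 hcon)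
  have key : ∀ x ∈ w, ∃ a ∈ Z i, ∃ b ∈ Z (i + 1), x * t * x⁻¹ * t⁻¹ = a * b := by
    intro x hx
    exact mem_sup_of_comm (fun z hz => H.Z_cent i hz) (hc x (hw.le_NN hx) t (hy.le_NN ht))
  choose! a ha b hb e using key
  rw [← card_adj hw]
  refine Nat.card_le_card_of_injective (fun x : w => (⟨a x, ha x x.2⟩ : Z i)) ?_
  intro x x' hxx
  have h1 : a x = a x' := congrArg Subtype.val hxx
  have hw' : (x' : G)⁻¹ * x ∈ w := mul_mem (inv_mem x'.2) x.2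
  have hbb : b x * (b x')⁻¹ ∈ Z (i + 1) := mul_mem (hb x x.2) (inv_mem (hb x' x'.2))
  have h2 : (x' : G)⁻¹ * x * t * ((x' : G)⁻¹ * x)⁻¹ * t⁻¹ = b x * (b x')⁻¹ := by
    have e1 : (x' : G)⁻¹ * x * t * ((x' : G)⁻¹ * x)⁻¹ * t⁻¹ =
        (x' : G)⁻¹ * ((x * t * (x : G)⁻¹ * t⁻¹) * (x' * t * (x' : G)⁻¹ * t⁻¹)⁻¹) * x' := by group
    rw [e1, e x x.2, e x' x'.2, h1]
    have e2 : a x' * b x * (a x' * b x')⁻¹ = b x * (b x')⁻¹ := by
      have c1 := mem_centralizer_iff.1 (H.Z_cent i hbb) (a x') (ha x' x'.2)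
      calc a x' * b x * (a x' * b x')⁻¹ = (a x' * (b x * (b x')⁻¹)) * (a x')⁻¹ := by group
        _ = b x * (b x')⁻¹ := by rw [c1]; group
    rw [e2]
    have c2 : (b x * (b x')⁻¹) * x' = x' * (b x * (b x')⁻¹) :=
      (mem_centralizer_iff.1 (H.P.NN_comm hw.pt ((PT.adj Z i).le_NN hbb)) (x' : G) (hw.le_NN x'.2)).symm
    rw [mul_assoc, c2]; group
  by_contra hne
  have h3 : (x' : G)⁻¹ * x ≠ 1 := fun e0 => hne (Subtype.ext (inv_mul_eq_one.1 e0).symm)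
  exact H.ne_one hc hw hy h hw' h3 ht ht1 (H.part hw hy hw' ht (by rw [h2]; exact hbb))

/-- `[N_0, N_1] ≠ 1` implies `|Z_0| = |Z_1|` -/
theorem card_eq (hc : Cm Z 0) (nc : ¬ PT.NN Z (Z 0) ≤ centralizer (PT.NN Z (Z 1) : Set G)) :
    Nat.card (Z 1) = Nat.card (Z 0) := by
  obtain ⟨w, hw, y, hy, h⟩ : ∃ w, PT.Adj Z (Z 0) w ∧ ∃ y, PT.Adj Z (Z 1) y ∧ ¬ w ≤ centralizer (y : Set G) := by
    by_contra hcon
    push Not at hcon
    apply nc
    refine sSup_le fun w hw => ?_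
    rw [le_centralizer_iff]
    exact sSup_le fun y hy => le_centralizer_iff.1 (hcon w hw y hy)
  have e0 : (0 : Fin 2) + 1 = 1 := rfl
  have e1 : (1 : Fin 2) + 1 = 0 := rfl
  have hc' : Cm Z 1 := hc.symm
  have hy' : PT.Adj Z (Z (0 + 1)) y := by rw [e0]; exact hy
  have hw' : PT.Adj Z (Z (1 + 1)) w := by rw [e1]; exact hw
  have k1 := H.card_le hc hw hy' h
  have k2 := H.card_le hc' hy hw' (fun h' => h (le_centralizer_iff.1 h'))
  rw [e0] at k1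
  rw [e1] at k2
  exact le_antisymm k1 k2

theorem con : Con Z := fun _ _ _ h h' => H.P.con h h'

theorem toTQ0 (hc : Cm Z 0) (nc : ¬ PT.NN Z (Z 0) ≤ centralizer (PT.NN Z (Z 1) : Set G)) : TQ0 Z U := by
  have hcard := H.card_eq hc nc
  have hZ : ∀ i, Nat.card (Z i) = Nat.card (Z 0) := by
    intro i
    rcases f01 i with e | e
    · rw [e]
    · rw [e]; exact hcard
  refine
    { ZU := H.P.ZU
      sq := H.P.sq
      ne := H.P.ne
      tr := ?_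
      NQ := H.P.N_le_Q
      QC := H.P.Q_le_cent
      nonLoc := H.P.nonLoc
      card := hcard
      ti := fun a b ha hb x hx hx' hx1 => H.ti' ha hb hx hx' hx1
      fus := H.fus
      self := fun i => H.self (Z i)
      com := hc
      nc := nc
      pts := ?_
      cardU := fun i => by rw [H.cardU i, hZ i]
      UQ' := fun i => ?_ }
  · intro i y hy hle
    obtain ⟨x, hx, hx1⟩ : ∃ x ∈ y, x ≠ 1 := by
      by_contra hcon
      push Not at hcon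
      exact H.P.pt_ne hy ((eq_bot_iff_forall _).2 hcon)
    obtain ⟨l, h1, h2, h3, h4⟩ := H.tra i x (hle hx) hx1
    exact ⟨l, H.ti' ((PT.isPt Z i).conj l) hy h1 hx hx1, h2, h3, h4⟩
  · intro i x hx hx1
    obtain ⟨l, h1, h2, h3, h4⟩ := H.tra i x hx hx1
    refine ⟨MulAut.conj l • Z i, (PT.isPt Z i).conj l, ?_, h1⟩
    rw [← h3]
    exact conj_le_iff.2 (H.P.ZU i)
  · exact (PT.ln_le_XW (PT.lnOn Z U i)).trans (H.X.XQ _ (PT.isPt Z i))

theorem toTQL (hc : Cm Z 0) (nc : ¬ PT.NN Z (Z 0) ≤ centralizer (PT.NN Z (Z 1) : Set G)) : TQL Z U B where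
  toTQ := (H.toTQ0 hc nc).toTQ H.con
  core := H.core
  B2 := H.B2
  BZ := H.BZ
  int := H.int
  Bfix := H.Bfix
  ab := by
    intro i l l' hl hl'
    have h1 := (NO3S.EThree.ExactA.eab_iff.1 (H.X.eab _ (PT.isPt Z i))).1
    exact (PT.ln_le_XW hl).trans (h1.trans (centralizer_le (PT.ln_le_XW hl')))

theorem cm : Cm Z 0 := by
  intro n hn t ht
  refine H.int (mem_inf.2 ⟨?_, ?_⟩)
  · have h1 : t ∈ normalizer (PT.NN Z (Z 0) : Set G) :=
      PT.PP.HH_le_NN (Z 0) (H.P.QQ_le_HH (PT.adj Z 0) (H.P.N_le_Q 1 ht))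
    have h3 : t * n⁻¹ * t⁻¹ ∈ PT.NN Z (Z 0) := (mem_normalizer_iff.1 h1 _).1 (inv_mem hn)
    have e : n * t * n⁻¹ * t⁻¹ = n * (t * n⁻¹ * t⁻¹) := by group
    rw [e]
    exact mul_mem hn h3
  · have h1 : n ∈ normalizer (PT.NN Z (Z 1) : Set G) :=
      PT.PP.HH_le_NN (Z 1) (H.P.QQ_le_HH (PT.adj Z 1) (H.P.N_le_Q 0 hn))
    exact mul_mem ((mem_normalizer_iff.1 h1 _).1 ht) (inv_mem ht)

/-- **(6)** `N_0 ∩ N_1 ≤ Z_0Z_1` implies `[N_0, N_1] = 1`. -/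
theorem com : PT.Com Z (Z 0) (Z 1) := by
  by_contra nc
  exact (H.toTQL H.cm nc).false

end TIn

end Cfsg.Agent.Omega.OM.TV
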